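import Cfsg.Agent.H352.KS.Defs
import Cfsg.Agent.H503.KKL.Weights
import Cfsg.Agent.H215.KS.Dfour

/-!
# S4577, rows `PSp_2m(q)` and `POmega_n(q)`, `q` odd: the weights (helper989)

`pc : Cfsg.Agent.H352.KS.PC`.
-/

set_option autoImplicit false
set_option linter.unusedSectionVars false

open Cfsg Cfsg.Agent.H613.KS Cfsg.Agent.H215.KS Cfsg.Agent.H503.KKL

namespace Cfsg.Agent.H989.KS

/-! ## the complement -/

section compl

variable {G S R : Type*} [Group G] [Group S] [Ring R] {ν : G →* R} (hν : Function.Injective ν) {π : G →* S}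
  (hker : ∀ z : G, π z = 1 → ν z = 1 ∨ ν z = -1)

include hν hker

theorem ker_comm {z : G} (hz : π z = 1) (g : G) : z * g = g * z := by
  apply hν
  rw [map_mul, map_mul]
  rcases hker z hz with h | h
  · rw [h, one_mul, mul_one]
  · rw [h, neg_one_mul, mul_neg_one]

theorem ker_sq {z : G} (hz : π z = 1) : z * z = 1 := by
  apply hν
  rw [map_mul, map_one]
  rcases hker z hz with h | h
  · rw [h, one_mul]
  · rw [h, neg_one_mul, neg_neg]

variable {D : Subgroup S} (hD : E16 D) {y : G} (hy : Five D (π y))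
  (hab : ∀ a b : G, π a ∈ D → π b ∈ D → a * b = b * a)

include hD hy hab in
/-- the squares are trivial -/
theorem sq_eq_one (hs : Function.Surjective π) {a : G} (ha : π a ∈ D) : a * a = 1 := by
  -- the elements of `D` with a lift of square one
  let A : Subgroup S :=
    { carrier := {d | ∃ a : G, π a = d ∧ d ∈ D ∧ a * a = 1}
      mul_mem' := by
        rintro d d' ⟨a, rfl, ha, h⟩ ⟨b, rfl, hb, h'⟩
        refine ⟨a * b, map_mul _ _ _, D.mul_mem ha hb, ?_⟩
        calc a * b * (a * b) = a * (b * a) * b := by simp only [mul_assoc]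
          _ = a * (a * b) * b := by rw [hab b a hb ha]
          _ = (a * a) * (b * b) := by simp only [mul_assoc]
          _ = 1 := by rw [h, h', one_mul]
      one_mem' := ⟨1, map_one _, D.one_mem, one_mul _⟩
      inv_mem' := by
        rintro d ⟨a, rfl, ha, h⟩
        refine ⟨a⁻¹, map_inv _ _, D.inv_mem ha, ?_⟩
        rw [← mul_inv_rev, h, inv_one] }
  have hA : ∀ d, d ∈ A ↔ ∃ a : G, π a = d ∧ d ∈ D ∧ a * a = 1 := fun d => Iff.rfl
  have hAD : A = D := by
    rcases hy.irr A (fun d hd => ((hA d).1 hd).choose_spec.2.1) (by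
      intro d hd
      obtain ⟨a, rfl, ha, h⟩ := (hA _).1 hd
      refine (hA _).2 ⟨y * a * y⁻¹, by rw [map_mul, map_mul, map_inv], (hy.norm _).2 ha, ?_⟩
      have e1 : y * a * y⁻¹ * (y * a * y⁻¹) = y * (a * a) * y⁻¹ := by group
      rw [e1, h, mul_one, mul_inv_cancel]) with h | h
    · exfalso
      have hbad : ∀ a : G, π a ∈ D → π a ≠ 1 → ν (a * a) = -1 := by
        intro a ha ha1
        have h1 : π (a * a) = 1 := by rw [map_mul]; exact hD.inv _ ha
        rcases hker _ h1 with h2 | h2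
        · exfalso
          apply ha1
          have h3 : a * a = 1 := hν (by rw [h2, map_one])
          have h4 : π a ∈ A := (hA _).2 ⟨a, rfl, ha, h3⟩
          rw [h] at h4
          exact Subgroup.mem_bot.1 h4
        · exact h2
      obtain ⟨d, hd, hd1⟩ : ∃ d ∈ D, d ≠ 1 := by
        by_contra hcon
        push Not at hcon
        have h1 : D = ⊥ := (Subgroup.eq_bot_iff_forall D).2 hcon
        have h2 := hD.card
        rw [h1, Subgroup.card_bot] at h2
        omega
      obtain ⟨a, rfl⟩ := hs d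
      have hb : π (y * a * y⁻¹) ∈ D := by
        rw [map_mul, map_mul, map_inv]
        exact (hy.norm _).2 hd
      have hb1 : π (y * a * y⁻¹) ≠ 1 := by
        intro h1
        apply hd1
        rw [map_mul, map_mul, map_inv, mul_inv_eq_one] at h1
        exact mul_eq_left.1 h1
      have hab1 : π (a * (y * a * y⁻¹)) ≠ 1 := by
        intro h1
        apply hd1
        refine ne_comm hD hy hd ?_
        rw [map_mul] at h1
        have h2 := hD.inv _ hd
        have h3 : π (y * a * y⁻¹) = π a := by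
          have := h1.trans h2.symm
          exact mul_left_cancel this
        rw [map_mul, map_mul, map_inv, mul_inv_eq_iff_eq_mul] at h3
        exact h3
      have hab2 : π (a * (y * a * y⁻¹)) ∈ D := by
        rw [map_mul]
        exact D.mul_mem hd hb
      have e1 := hbad _ hd hd1
      have e2 := hbad _ hb hb1
      have e3 := hbad _ hab2 hab1
      have e4 : a * (y * a * y⁻¹) * (a * (y * a * y⁻¹)) = (a * a) * ((y * a * y⁻¹) * (y * a * y⁻¹)) := by
        calc a * (y * a * y⁻¹) * (a * (y * a * y⁻¹)) = a * ((y * a * y⁻¹) * a) * (y * a * y⁻¹) := by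
              simp only [mul_assoc]
          _ = a * (a * (y * a * y⁻¹)) * (y * a * y⁻¹) := by rw [hab _ a hb hd]
          _ = _ := by simp only [mul_assoc]
      rw [e4, map_mul, e1, e2, neg_one_mul, neg_neg] at e3
      -- `1 = -1`: then `ν (a * a) = 1`
      have h5 : a * a = 1 := hν (by rw [map_one, e1]; exact e3.symm)
      have h6 : π a ∈ A := (hA _).2 ⟨a, rfl, hd, h5⟩
      rw [h] at h6
      exact hd1 (Subgroup.mem_bot.1 h6)
    · exact h
  have h1 : π a ∈ A := by rw [hAD]; exact ha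
  obtain ⟨b, hb, -, hb2⟩ := (hA _).1 h1
  have hz : π (b⁻¹ * a) = 1 := by rw [map_mul, map_inv, hb, inv_mul_cancel]
  have h3 : a = b * (b⁻¹ * a) := by rw [mul_inv_cancel_left]
  have h4 := ker_comm hν hker hz b
  have h5 := ker_sq hν hker hz
  rw [h3]
  calc b * (b⁻¹ * a) * (b * (b⁻¹ * a)) = b * ((b⁻¹ * a) * b) * (b⁻¹ * a) := by simp only [mul_assoc]
    _ = b * (b * (b⁻¹ * a)) * (b⁻¹ * a) := by rw [h4]
    _ = (b * b) * ((b⁻¹ * a) * (b⁻¹ * a)) := by simp only [mul_assoc]
    _ = 1 := by rw [hb2, h5, one_mul]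

include hD hy hab in
/-- the complement of the kernel in the preimage of `D` -/
theorem exists_compl (hs : Function.Surjective π) : ∃ D₀ : Subgroup G, D₀.map π = D ∧ (∀ d ∈ D₀, π d = 1 → d = 1) ∧
    (∀ d ∈ D₀, d * d = 1) ∧ (∀ d : G, y * d * y⁻¹ ∈ D₀ ↔ d ∈ D₀) ∧ (∀ a ∈ D₀, ∀ b ∈ D₀, a * b = b * a) := by
  have hsq : ∀ a : G, π a ∈ D → a * a = 1 := fun a ha => sq_eq_one hν hker hD hy hab hs ha
  have hc : ∀ a : G, π a ∈ D → π (y * a * y⁻¹) ∈ D := by
    intro a ha
    rw [map_mul, map_mul, map_inv]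
    exact (hy.norm _).2 ha
  let D₀ : Subgroup G :=
    { carrier := {d | ∃ a : G, π a ∈ D ∧ d = a * (y * a * y⁻¹)}
      mul_mem' := by
        rintro d d' ⟨a, ha, rfl⟩ ⟨b, hb, rfl⟩
        refine ⟨a * b, by rw [map_mul]; exact D.mul_mem ha hb, ?_⟩
        have e1 : y * (a * b) * y⁻¹ = (y * a * y⁻¹) * (y * b * y⁻¹) := by group
        rw [e1]
        calc a * (y * a * y⁻¹) * (b * (y * b * y⁻¹)) = a * ((y * a * y⁻¹) * b) * (y * b * y⁻¹) := by
              simp only [mul_assoc]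
          _ = a * (b * (y * a * y⁻¹)) * (y * b * y⁻¹) := by rw [hab _ b (hc a ha) hb]
          _ = _ := by simp only [mul_assoc]
      one_mem' := ⟨1, by rw [map_one]; exact D.one_mem, by group⟩
      inv_mem' := by
        rintro d ⟨a, ha, rfl⟩
        refine ⟨a, ha, ?_⟩
        have h1 : π (a * (y * a * y⁻¹)) ∈ D := by rw [map_mul]; exact D.mul_mem ha (hc a ha)
        exact inv_eq_of_mul_eq_one_left (hsq _ h1) }
  have hmem : ∀ d, d ∈ D₀ ↔ ∃ a : G, π a ∈ D ∧ d = a * (y * a * y⁻¹) := fun d => Iff.rfl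
  have hπ : ∀ d ∈ D₀, π d ∈ D := by
    intro d hd
    obtain ⟨a, ha, rfl⟩ := (hmem d).1 hd
    rw [map_mul]
    exact D.mul_mem ha (hc a ha)
  have hfin : Finite D := Nat.finite_of_card_ne_zero (by rw [hD.card]; norm_num)
  refine ⟨D₀, ?_, ?_, fun d hd => hsq d (hπ d hd), ?_, fun a ha b hb => hab a b (hπ a ha) (hπ b hb)⟩
  · apply le_antisymm
    · rintro _ ⟨d, hd, rfl⟩
      exact hπ d hd
    · intro d hd
      let f : D → D := fun a => ⟨a * (π y * a * (π y)⁻¹), D.mul_mem a.2 ((hy.norm _).2 a.2)⟩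
      have hf : Function.Injective f := by
        intro a b h
        have h1 : (a : S) * (π y * a * (π y)⁻¹) = b * (π y * b * (π y)⁻¹) := congrArg Subtype.val h
        have hcm := E16.comm hD
        have h2 : (a : S) * b = 1 := by
          refine ne_comm hD hy (D.mul_mem a.2 b.2) ?_
          have m1 : π y * (a : S) * (π y)⁻¹ ∈ D := (hy.norm _).2 a.2
          have m2 : π y * (b : S) * (π y)⁻¹ ∈ D := (hy.norm _).2 b.2
          have h3 : (b : S) * a = (π y * b * (π y)⁻¹) * (π y * a * (π y)⁻¹) := by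
            have h4 : (b : S) * ((a : S) * (π y * a * (π y)⁻¹)) * (π y * a * (π y)⁻¹) =
                (b : S) * (b * (π y * b * (π y)⁻¹)) * (π y * a * (π y)⁻¹) := by rw [h1]
            have e1 : ∀ u v m : S, m * m = 1 → u * (v * m) * m = u * v := by
              intro u v m hm
              rw [mul_assoc, mul_assoc, hm, mul_one]
            have e2 : ∀ u v m : S, u * u = 1 → u * (u * v) * m = v * m := by
              intro u v m hm
              rw [← mul_assoc u u v, hm, one_mul]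
            rw [e1 _ _ _ (hD.inv _ m1), e2 _ _ _ (hD.inv _ b.2)] at h4
            exact h4
          have h5 : (a : S) * b = π y * ((a : S) * b) * (π y)⁻¹ := by
            calc (a : S) * b = (b : S) * a := hcm _ a.2 _ b.2
              _ = (π y * b * (π y)⁻¹) * (π y * a * (π y)⁻¹) := h3
              _ = π y * ((b : S) * a) * (π y)⁻¹ := by group
              _ = _ := by rw [hcm _ b.2 _ a.2]
          calc π y * ((a : S) * b) = (π y * ((a : S) * b) * (π y)⁻¹) * π y := by group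
            _ = (a : S) * b * π y := by rw [← h5]
        have h3 : (a : S) * b = b * b := h2.trans (hD.inv _ b.2).symm
        exact Subtype.ext (mul_right_cancel h3)
      obtain ⟨a, ha⟩ := (Finite.injective_iff_surjective.1 hf) ⟨d, hd⟩
      have ha' : (a : S) * (π y * a * (π y)⁻¹) = d := congrArg Subtype.val ha
      obtain ⟨b, hb⟩ := hs a
      refine ⟨b * (y * b * y⁻¹), (hmem _).2 ⟨b, by rw [hb]; exact a.2, rfl⟩, ?_⟩
      rw [map_mul, map_mul, map_mul, map_inv, hb]
      exact ha'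
  · intro d hd h1
    obtain ⟨a, ha, rfl⟩ := (hmem d).1 hd
    have h2 : π a = 1 := by
      refine ne_comm hD hy ha ?_
      rw [map_mul, map_mul, map_mul, map_inv] at h1
      have h3 : π y * π a * (π y)⁻¹ = π a := by
        have h4 := h1.trans (hD.inv _ ha).symm
        exact mul_left_cancel h4
      rw [mul_inv_eq_iff_eq_mul] at h3
      exact h3
    have h3 : y * a * y⁻¹ = a := by
      rw [← ker_comm hν hker h2 y, mul_inv_cancel_right]
    rw [h3]
    exact ker_sq hν hker h2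
  · intro d
    constructor
    · intro h
      obtain ⟨a, ha, h1⟩ := (hmem _).1 h
      refine (hmem _).2 ⟨y⁻¹ * a * y, ?_, ?_⟩
      · rw [map_mul, map_mul, map_inv]
        apply (hy.norm _).1
        have e1 : π y * ((π y)⁻¹ * π a * π y) * (π y)⁻¹ = π a := by group
        rw [e1]
        exact ha
      · have e1 : d = y⁻¹ * (y * d * y⁻¹) * y := by group
        rw [e1, h1]
        group
    · intro h
      obtain ⟨a, ha, rfl⟩ := (hmem _).1 h
      refine (hmem _).2 ⟨y * a * y⁻¹, hc a ha, ?_⟩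
      group

end compl

/-! ## the weights -/

section weights

variable {F : Type*} [Field F] {R : Type*} [Ring R] [Algebra F R] {C : Type*} [CommGroup C] [Fintype C]

/-- the twisted character -/
def tw (θ : MulAut C) (χ : C →* Fˣ) : C →* Fˣ := χ.comp θ.toMonoidHom

theorem tw_apply (θ : MulAut C) (χ : C →* Fˣ) (c : C) : tw θ χ c = χ (θ c) := rfl

theorem tw_iter (θ : MulAut C) (χ : C →* Fˣ) (k : ℕ) (c : C) : ((tw θ)^[k] χ) c = χ ((θ ^ k) c) := by
  induction k generalizing χ with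
  | zero => simp
  | succ k ih =>
    rw [Function.iterate_succ_apply, ih, tw_apply, pow_succ']
    rfl

theorem idem_tw (ρ : C →* R) (θ : MulAut C) (Y : Rˣ) (hY : ∀ c, (Y : R) * ρ (θ c) = ρ c * (Y : R)) (χ : C →* Fˣ) :
    (Y : R) * idem ρ χ = idem ρ (tw θ χ) * (Y : R) := by
  unfold idem
  rw [mul_smul_comm, smul_mul_assoc]
  congr 1
  rw [Finset.mul_sum, Finset.sum_mul]
  refine (Fintype.sum_equiv θ.toEquiv _ _ fun c => ?_).symm
  show (((tw θ χ) c : Fˣ) : F) • ρ c * (Y : R) = (Y : R) * (((χ (θ c) : Fˣ) : F) • ρ (θ c))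
  rw [tw_apply, mul_smul_comm, smul_mul_assoc, hY]

theorem idem_iter (ρ : C →* R) (θ : MulAut C) (Y : Rˣ) (hY : ∀ c, (Y : R) * ρ (θ c) = ρ c * (Y : R)) (χ : C →* Fˣ)
    (k : ℕ) : ((Y ^ k : Rˣ) : R) * idem ρ χ = idem ρ ((tw θ)^[k] χ) * ((Y ^ k : Rˣ) : R) := by
  induction k generalizing χ with
  | zero => simp
  | succ k ih =>
    rw [pow_succ, Units.val_mul, mul_assoc, idem_tw ρ θ Y hY, ← mul_assoc, ih, Function.iterate_succ_apply, mul_assoc]

variable (hC : ∀ c : C, c * c = 1) (θ : MulAut C) (h5 : ∀ c : C, (θ ^ 5) c = c) (h1 : ∀ c : C, θ c = c → c = 1)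

include hC h1 in
theorem eq_one_of_tw {χ : C →* Fˣ} (h : tw θ χ = χ) : χ = 1 := by
  have hf : Function.Injective fun c : C => c * θ c := by
    intro a b hab
    have e : a * θ a = b * θ b := hab
    have e1 : θ (a * b) = a * b := by
      rw [map_mul]
      have e2 : a * (a * θ a) * θ b = a * (b * θ b) * θ b := by rw [e]
      have e3 : a * (a * θ a) * θ b = θ a * θ b := by rw [← mul_assoc a a, hC, one_mul]
      have e4 : a * (b * θ b) * θ b = a * b := by
        rw [mul_assoc, mul_assoc, ← map_mul, hC, map_one, mul_one]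
      rw [e3, e4] at e2
      exact e2
    have e2 : a * b = b * b := (h1 _ e1).trans (hC b).symm
    exact mul_right_cancel e2
  ext c
  obtain ⟨a, rfl⟩ := Finite.injective_iff_surjective.1 hf c
  have e1 : χ (θ a) = χ a := DFunLike.congr_fun h a
  show ((χ (a * θ a) : Fˣ) : F) = ((1 : C →* Fˣ) (a * θ a) : Fˣ)
  rw [map_mul, e1, ← map_mul, hC, map_one]
  rfl

include h5 in
theorem tw_five (χ : C →* Fˣ) : (tw θ)^[5] χ = χ := by
  ext c
  rw [tw_iter, h5]

include hC h5 h1 in
theorem minimalPeriod_tw {χ : C →* Fˣ} (h : χ ≠ 1) : Function.minimalPeriod (tw θ) χ = 5 := by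
  have hd : Function.minimalPeriod (tw θ) χ ∣ 5 := Function.IsPeriodicPt.minimalPeriod_dvd (tw_five θ h5 χ)
  rcases (Nat.dvd_prime Nat.prime_five).1 hd with h' | h'
  · exact absurd (eq_one_of_tw hC θ h1 (Function.minimalPeriod_eq_one_iff_isFixedPt.1 h')) h
  · exact h'

include hC h5 h1 in
theorem tw_inj {χ : C →* Fˣ} (h : χ ≠ 1) {i j : ℕ} (hi : i < 5) (hj : j < 5) (hij : (tw θ)^[i] χ = (tw θ)^[j] χ) :
    i = j := by
  have h' := minimalPeriod_tw hC θ h5 h1 h
  exact Function.iterate_injOn_Iio_minimalPeriod (f := tw θ) (x := χ) (Set.mem_Iio.2 (by omega))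
    (Set.mem_Iio.2 (by omega)) hij

include h5 h1 in
theorem prod_tw (χ : C →* Fˣ) (c : C) : χ c * ((tw θ)^[1] χ) c * ((tw θ)^[2] χ) c * ((tw θ)^[3] χ) c *
    ((tw θ)^[4] χ) c = 1 := by
  rw [tw_iter, tw_iter, tw_iter, tw_iter, ← map_mul, ← map_mul, ← map_mul, ← map_mul]
  have e : c * (θ ^ 1) c * (θ ^ 2) c * (θ ^ 3) c * (θ ^ 4) c = 1 := by
    apply h1
    have e1 : ∀ (k : ℕ) (d : C), θ ((θ ^ k) d) = (θ ^ (k + 1)) d := by
      intro k d
      rw [pow_succ']
      rfl
    rw [map_mul, map_mul, map_mul, map_mul, e1, e1, e1, e1, h5]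
    have e2 : θ c = (θ ^ 1) c := by rw [pow_one]
    rw [e2]
    have e3 : (θ ^ 1) c * (θ ^ (1 + 1)) c * (θ ^ (2 + 1)) c * (θ ^ (3 + 1)) c * c =
      c * ((θ ^ 1) c * (θ ^ 2) c * (θ ^ 3) c * (θ ^ 4) c) := mul_comm _ _
    rw [e3]
    simp only [mul_assoc]
  rw [e, map_one]

section more

variable [Fintype (C →* Fˣ)] (h2 : (2 : F) ≠ 0) (ρ : C →* R) (hn : (Fintype.card C : F) ≠ 0)

include hC hn h2 in
theorem expand (c : C) : ρ c = ∑ χ : C →* Fˣ, ((χ c : Fˣ) : F) • idem ρ χ := by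
  calc ρ c = ρ c * ∑ χ : C →* Fˣ, idem ρ χ := by rw [sum_idem ρ hC hn h2, mul_one]
    _ = _ := by
      rw [Finset.mul_sum]
      exact Finset.sum_congr rfl fun χ _ => rho_idem ρ hC χ c

include hC hn h2 in
/-- an element on which all the weights are trivial -/
theorem eq_one_of_weights (hρ : Function.Injective ρ) {c : C} (h : ∀ χ : C →* Fˣ, idem ρ χ ≠ 0 → χ c = 1) : c = 1 := by
  apply hρ
  rw [expand hC h2 ρ hn c, expand hC h2 ρ hn 1]
  refine Finset.sum_congr rfl fun χ _ => ?_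
  by_cases h' : idem ρ χ = 0
  · rw [h', smul_zero, smul_zero]
  · rw [h χ h', map_one]

theorem chi_pm (hC : ∀ c : C, c * c = 1) (χ : C →* Fˣ) (c : C) : χ c = 1 ∨ χ c = -1 := by
  have e := chi_sq hC χ c
  have e1 : (((χ c : Fˣ) : F) - 1) * (((χ c : Fˣ) : F) + 1) = 0 := by linear_combination e
  rcases mul_eq_zero.1 e1 with h | h
  · left
    exact Units.ext (sub_eq_zero.1 h)
  · right
    exact Units.ext (by rw [Units.val_neg, Units.val_one]; exact eq_neg_of_add_eq_zero_left h)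

variable (Y : Rˣ) (hY : ∀ c, (Y : R) * ρ (θ c) = ρ c * (Y : R))

include hY in
theorem tw_ne {χ : C →* Fˣ} (h : idem ρ χ ≠ 0) : idem ρ (tw θ χ) ≠ 0 := by
  intro h0
  apply h
  have e := idem_tw ρ θ Y hY χ
  rw [h0, zero_mul] at e
  have e1 : ((Y⁻¹ : Rˣ) : R) * ((Y : R) * idem ρ χ) = 0 := by rw [e, mul_zero]
  rwa [← mul_assoc, Units.inv_mul, one_mul] at e1

include hY in
theorem iter_ne {χ : C →* Fˣ} (h : idem ρ χ ≠ 0) (k : ℕ) : idem ρ ((tw θ)^[k] χ) ≠ 0 := by
  induction k with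
  | zero => exact h
  | succ k ih =>
    rw [Function.iterate_succ_apply']
    exact tw_ne θ ρ Y hY ih

include h5 in
theorem iter_mod (χ : C →* Fˣ) (k : ℕ) : (tw θ)^[k % 5] χ = (tw θ)^[k] χ :=
  Function.IsPeriodicPt.iterate_mod_apply (tw_five θ h5 χ) k

variable (h7 : Nat.card {χ : C →* Fˣ // idem ρ χ ≠ 0} ≤ 7)

include hC h5 h1 hY h7 in
/-- one orbit -/
theorem orbit {χ μ : C →* Fˣ} (hχ : idem ρ χ ≠ 0) (hχ1 : χ ≠ 1) (hμ : idem ρ μ ≠ 0) :
    μ = 1 ∨ ∃ i < 5, μ = (tw θ)^[i] χ := by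
  classical
  by_contra hcon
  push Not at hcon
  obtain ⟨hμ1, hμχ⟩ := hcon
  have hne : ∀ i j : ℕ, j < 5 → (tw θ)^[i] χ ≠ (tw θ)^[j] μ := by
    intro i j hj h
    have e : (tw θ)^[5 - j + i] χ = μ := by
      rw [Function.iterate_add_apply, h, ← Function.iterate_add_apply, Nat.sub_add_cancel hj.le, tw_five θ h5]
    apply hμχ ((5 - j + i) % 5) (Nat.mod_lt _ (by norm_num))
    rw [iter_mod θ h5, e]
  have hinj : Function.Injective (Sum.elim (fun i : Fin 5 => (⟨(tw θ)^[i] χ, iter_ne θ ρ Y hY hχ i⟩ :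
      {χ : C →* Fˣ // idem ρ χ ≠ 0})) (fun i : Fin 5 => (⟨(tw θ)^[i] μ, iter_ne θ ρ Y hY hμ i⟩ :
      {χ : C →* Fˣ // idem ρ χ ≠ 0}))) := by
    rintro (i | i) (j | j) h
    · exact congrArg Sum.inl (Fin.ext (tw_inj hC θ h5 h1 hχ1 i.2 j.2 (congrArg Subtype.val h)))
    · exact absurd (congrArg Subtype.val h) (hne i j j.2)
    · exact absurd (congrArg Subtype.val h).symm (hne j i i.2)
    · exact congrArg Sum.inr (Fin.ext (tw_inj hC θ h5 h1 hμ1 i.2 j.2 (congrArg Subtype.val h)))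
  have h3 := Nat.card_le_card_of_injective _ hinj
  rw [Nat.card_eq_fintype_card (α := Fin 5 ⊕ Fin 5), Fintype.card_sum, Fintype.card_fin] at h3
  omega

/-- the characters whose multiplication preserves the set of the weights -/
def stab (hC : ∀ c : C, c * c = 1) (ρ : C →* R) : Subgroup (C →* Fˣ) where
  carrier := {ψ | ∀ χ : C →* Fˣ, idem ρ χ ≠ 0 → idem ρ (χ * ψ) ≠ 0}
  mul_mem' := by
    intro ψ ψ' h h' χ hχ
    rw [← mul_assoc]
    exact h' _ (h _ hχ)
  one_mem' := by
    intro χ hχ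
    rwa [mul_one]
  inv_mem' := by
    intro ψ h χ hχ
    have e : ψ⁻¹ = ψ := by
      ext c
      have := chi_sq hC ψ c
      rw [MonoidHom.inv_apply, Units.val_inv_eq_inv_val]
      exact inv_eq_of_mul_eq_one_left this
    rw [e]
    exact h χ hχ

include hC h5 h1 hY h7 h2 in
theorem stab_eq (h16 : Nat.card C = 16) {χ : C →* Fˣ} (hχ : idem ρ χ ≠ 0) {ψ : C →* Fˣ} (hψ : ψ ∈ stab (F := F) hC ρ) :
    ψ = 1 := by
  classical
  by_contra hψ1
  have hT : ∀ ψ ∈ stab (F := F) hC ρ, tw θ ψ ∈ stab (F := F) hC ρ := by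
    intro ψ hψ χ hχ
    have e : χ = tw θ ((tw θ)^[4] χ) := by
      rw [← Function.iterate_succ_apply' (tw θ) 4 χ]
      exact (tw_five θ h5 χ).symm
    have e1 : χ * tw θ ψ = tw θ ((tw θ)^[4] χ * ψ) := by
      conv_lhs => rw [e]
      rfl
    rw [e1]
    exact tw_ne θ ρ Y hY (hψ _ (iter_ne θ ρ Y hY hχ 4))
  have hTi : ∀ k : ℕ, (tw θ)^[k] ψ ∈ stab (F := F) hC ρ := by
    intro k
    induction k with
    | zero => exact hψ
    | succ k ih =>
      rw [Function.iterate_succ_apply']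
      exact hT _ ih
  have hone : ∀ k : ℕ, (tw θ)^[k] (1 : C →* Fˣ) = 1 := by
    intro k
    ext c
    rw [tw_iter]
    rfl
  have hne : ∀ k < 5, (tw θ)^[k] ψ ≠ 1 := by
    intro k hk h
    apply hψ1
    have e : (tw θ)^[5 - k + k] ψ = 1 := by rw [Function.iterate_add_apply, h, hone]
    rw [Nat.sub_add_cancel hk.le, tw_five θ h5] at e
    exact e
  have hinj : Function.Injective (fun o : Option (Fin 5) => (match o with
      | none => (⟨1, (stab (F := F) hC ρ).one_mem⟩ : stab (F := F) hC ρ)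
      | some i => ⟨(tw θ)^[(i : ℕ)] ψ, hTi i⟩)) := by
    rintro (_ | i) (_ | j) h
    · rfl
    · exact absurd (congrArg Subtype.val h).symm (hne j j.2)
    · exact absurd (congrArg Subtype.val h) (hne i i.2)
    · exact congrArg some (Fin.ext (tw_inj hC θ h5 h1 hψ1 i.2 j.2 (congrArg Subtype.val h)))
  have h3 := Nat.card_le_card_of_injective _ hinj
  rw [Nat.card_eq_fintype_card (α := Option (Fin 5)), Fintype.card_option, Fintype.card_fin] at h3
  have hinj2 : Function.Injective (fun ψ : stab (F := F) hC ρ => (⟨χ * ψ, ψ.2 χ hχ⟩ : {χ : C →* Fˣ // idem ρ χ ≠ 0})) := by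
    intro a b h
    exact Subtype.ext (mul_left_cancel (congrArg Subtype.val h))
  have h4 := Nat.card_le_card_of_injective _ hinj2
  have hR := hasRoots hC h2
  have h6 : Nat.card (stab (F := F) hC ρ) ∣ 16 := by
    have h8 := CommGroup.card_monoidHom_of_hasEnoughRootsOfUnity C F
    rw [h16] at h8
    rw [← h8]
    exact Subgroup.card_subgroup_dvd_card _
  have h9 : Nat.card (stab (F := F) hC ρ) ≤ 7 := h4.trans h7
  generalize Nat.card (stab (F := F) hC ρ) = n at h3 h6 h9
  interval_cases n <;> omega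

include hC hn h2 in
theorem exists_weight (hρ : Function.Injective ρ) (h16 : Nat.card C = 16) : ∃ χ : C →* Fˣ, χ ≠ 1 ∧ idem ρ χ ≠ 0 := by
  by_contra hcon
  push Not at hcon
  have e : ∀ c : C, c = 1 := by
    intro c
    refine eq_one_of_weights hC h2 ρ hn hρ fun χ hχ => ?_
    by_cases h : χ = 1
    · rw [h]
      rfl
    · exact absurd (hcon χ h) hχ
  have : Subsingleton C := ⟨fun a b => by rw [e a, e b]⟩
  rw [Nat.card_of_subsingleton (1 : C)] at h16
  omega

include hC hn h5 h1 hY h7 h2 in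
/-- the element `t` -/
theorem exists_t (hρ : Function.Injective ρ) (h16 : Nat.card C = 16) {χ : C →* Fˣ} (hχ : idem ρ χ ≠ 0) (hχ1 : χ ≠ 1) :
    ∃ t : C, ρ t = 1 - 2 * (idem ρ χ + idem ρ (tw θ χ)) := by
  classical
  let f : C → (Fin 4 → Bool) := fun c i => decide (((tw θ)^[(i : ℕ) + 1] χ) c = 1)
  have hf : Function.Injective f := by
    intro a b hab
    have hi : ∀ i : Fin 4, ((tw θ)^[(i : ℕ) + 1] χ) (a * b) = 1 := by
      intro i
      have e1 : (((tw θ)^[(i : ℕ) + 1] χ) a = 1) ↔ (((tw θ)^[(i : ℕ) + 1] χ) b = 1) :=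
        decide_eq_decide.1 (congrFun hab i)
      rw [map_mul]
      rcases chi_pm hC ((tw θ)^[(i : ℕ) + 1] χ) a with ha | ha
      · rw [ha, e1.1 ha, one_mul]
      · rcases chi_pm hC ((tw θ)^[(i : ℕ) + 1] χ) b with hb | hb
        · rw [e1.2 hb, hb, one_mul]
        · rw [ha, hb, neg_mul_neg, one_mul]
    have hp := prod_tw θ h5 h1 χ (a * b)
    have h01 := hi 0
    have h02 := hi 1
    have h03 := hi 2
    have h04 := hi 3
    have q1 : ((tw θ)^[1] χ) (a * b) = 1 := h01
    have q2 : ((tw θ)^[2] χ) (a * b) = 1 := h02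
    have q3 : ((tw θ)^[3] χ) (a * b) = 1 := h03
    have q4 : ((tw θ)^[4] χ) (a * b) = 1 := h04
    rw [q1, q2, q3, q4, mul_one, mul_one, mul_one, mul_one] at hp
    have hall : a * b = 1 := by
      refine eq_one_of_weights hC h2 ρ hn hρ fun μ hμ => ?_
      rcases orbit hC θ h5 h1 ρ Y hY h7 hχ hχ1 hμ with rfl | ⟨i, hi5, rfl⟩
      · rfl
      · interval_cases i
        · exact hp
        · exact q1
        · exact q2
        · exact q3
        · exact q4
    have e : a * b = b * b := hall.trans (hC b).symm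
    exact mul_right_cancel e
  have hcard : Nat.card (Fin 4 → Bool) ≤ Nat.card C := by
    rw [h16, Nat.card_eq_fintype_card]
    simp
  have hb := (hf.bijective_of_nat_card_le hcard).2
  obtain ⟨t, ht⟩ := hb ![false, true, true, true]
  have p1 : ((tw θ)^[1] χ) t = -1 := by
    have e1 : ¬ (((tw θ)^[1] χ) t = 1) := of_decide_eq_false (congrFun ht 0)
    rcases chi_pm hC ((tw θ)^[1] χ) t with h | h
    · exact absurd h e1
    · exact h
  have p2 : ((tw θ)^[2] χ) t = 1 := of_decide_eq_true (congrFun ht 1)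
  have p3 : ((tw θ)^[3] χ) t = 1 := of_decide_eq_true (congrFun ht 2)
  have p4 : ((tw θ)^[4] χ) t = 1 := of_decide_eq_true (congrFun ht 3)
  have p0 : χ t = -1 := by
    have hp := prod_tw θ h5 h1 χ t
    rw [p1, p2, p3, p4, mul_one, mul_one, mul_one, mul_neg_one] at hp
    rw [← hp, neg_neg]
  refine ⟨t, ?_⟩
  have hne : χ ≠ tw θ χ := fun h => hχ1 (eq_one_of_tw hC θ h1 h.symm)
  have e1 : ρ t - 1 = ∑ μ : C →* Fˣ, (((μ t : Fˣ) : F) - 1) • idem ρ μ := by
    rw [expand hC h2 ρ hn t]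
    conv_lhs => rw [← sum_idem ρ hC hn h2]
    rw [← Finset.sum_sub_distrib]
    refine Finset.sum_congr rfl fun μ _ => ?_
    rw [sub_smul, one_smul]
  have e2 : ∑ μ : C →* Fˣ, (((μ t : Fˣ) : F) - 1) • idem ρ μ =
      (((χ t : Fˣ) : F) - 1) • idem ρ χ + ((((tw θ χ) t : Fˣ) : F) - 1) • idem ρ (tw θ χ) := by
    refine Finset.sum_eq_add χ (tw θ χ) hne ?_ (fun h => absurd (Finset.mem_univ _) h)
      (fun h => absurd (Finset.mem_univ _) h)
    rintro μ - ⟨hμ1, hμ2⟩
    by_cases hμ : idem ρ μ = 0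
    · rw [hμ, smul_zero]
    · have h3 : μ t = 1 := by
        rcases orbit hC θ h5 h1 ρ Y hY h7 hχ hχ1 hμ with rfl | ⟨i, hi5, rfl⟩
        · rfl
        · interval_cases i
          · exact absurd rfl hμ1
          · exact absurd rfl hμ2
          · exact p2
          · exact p3
          · exact p4
      rw [h3, Units.val_one, sub_self, zero_smul]
  have p1' : (tw θ χ) t = -1 := p1
  rw [e2, p0, p1', Units.val_neg, Units.val_one] at e1
  have e3 : ∀ r : R, (-1 - 1 : F) • r = -(2 * r) := by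
    intro r
    rw [sub_smul, neg_smul, one_smul, two_mul]
    abel
  rw [e3, e3] at e1
  have e4 : ρ t = (ρ t - 1) + 1 := by abel
  rw [e4, e1, mul_add]
  abel

include hC hn h5 h1 hY h7 h2 in
/-- elements commuting with `C` up to sign -/
theorem comm_of_pm [Nontrivial R] (hρ : Function.Injective ρ) (h16 : Nat.card C = 16) (g : Rˣ)
    (hg : ∀ c, (g : R) * ρ c = ρ c * (g : R) ∨ (g : R) * ρ c = -(ρ c * (g : R))) (c : C) :
    (g : R) * ρ c = ρ c * (g : R) := by
  classical
  let s : C → Fˣ := fun c => if (g : R) * ρ c = ρ c * (g : R) then 1 else -1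
  have hs : ∀ c, (g : R) * ρ c = ((s c : Fˣ) : F) • (ρ c * (g : R)) := by
    intro c
    by_cases h : (g : R) * ρ c = ρ c * (g : R)
    · have e : s c = 1 := if_pos h
      rw [e, Units.val_one, one_smul]
      exact h
    · have e : s c = -1 := if_neg h
      rw [e, Units.val_neg, Units.val_one, neg_one_smul]
      rcases hg c with h' | h'
      · exact absurd h' h
      · exact h'
  have hunit : ∀ c, ρ c * (g : R) ≠ 0 := by
    intro c h
    have e : ρ c * (ρ c * (g : R)) = 0 := by rw [h, mul_zero]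
    rw [← mul_assoc, ← map_mul, hC, map_one, one_mul] at e
    exact g.ne_zero e
  have hinj : ∀ (c : C) (a b : F), a • (ρ c * (g : R)) = b • (ρ c * (g : R)) → a = b := by
    intro c a b h
    have e : (a - b) • (ρ c * (g : R)) = 0 := by rw [sub_smul, h, sub_self]
    rcases smul_eq_zero.1 e with h' | h'
    · exact sub_eq_zero.1 h'
    · exact absurd h' (hunit c)
  let ε : C →* Fˣ := MonoidHom.mk' s (by
    intro a b
    apply Units.ext
    apply hinj (a * b)
    rw [← hs, map_mul, ← mul_assoc, hs, smul_mul_assoc, mul_assoc, hs, mul_smul_comm, smul_smul, Units.val_mul,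
      mul_assoc])
  have hε : ε ∈ stab (F := F) hC ρ := by
    intro χ hχ h0
    apply hχ
    have e : (g : R) * idem ρ χ = idem ρ (χ * ε) * (g : R) := by
      unfold idem
      rw [mul_smul_comm, smul_mul_assoc]
      congr 1
      rw [Finset.mul_sum, Finset.sum_mul]
      refine Finset.sum_congr rfl fun c _ => ?_
      rw [mul_smul_comm, hs, smul_smul, smul_mul_assoc]
      rfl
    rw [h0, zero_mul] at e
    have e1 : ((g⁻¹ : Rˣ) : R) * ((g : R) * idem ρ χ) = 0 := by rw [e, mul_zero]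
    rwa [← mul_assoc, Units.inv_mul, one_mul] at e1
  obtain ⟨χ, -, hχ⟩ := exists_weight hC h2 ρ hn hρ h16
  have h3 := stab_eq hC θ h5 h1 h2 ρ Y hY h7 h16 hχ hε
  have h4 : s c = 1 := DFunLike.congr_fun h3 c
  rw [hs, h4, Units.val_one, one_smul]

end more

end weights

/-! ## the number of the weights -/

section number

open Cfsg.Agent.H352.KS

theorem card_le_two_mul {G S R : Type*} [Group G] [Group S] [Ring R] {ν : G →* R} (hν : Function.Injective ν)
    {π : G →* S} (hker : ∀ z : G, π z = 1 → ν z = 1 ∨ ν z = -1) (E : Subgroup G) :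
    Nat.card E ≤ 2 * Nat.card (E.map π) := by
  classical
  let f : E →* S := π.comp E.subtype
  have h1 := f.ker.card_mul_index
  rw [Subgroup.index_ker] at h1
  have h2 : f.range = E.map π := by
    show (π.comp E.subtype).range = E.map π
    rw [MonoidHom.range_comp, Subgroup.range_subtype]
  rw [h2] at h1
  have h3 : Nat.card f.ker ≤ 2 := by
    have hinj : Function.Injective fun z : f.ker => decide (ν ((z : E) : G) = 1) := by
      intro a b h
      have e := decide_eq_decide.1 h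
      have ha := hker _ (show π ((a : E) : G) = 1 from a.2)
      have hb := hker _ (show π ((b : E) : G) = 1 from b.2)
      apply Subtype.ext
      apply Subtype.ext
      apply hν
      rcases ha with ha | ha
      · rw [ha, e.1 ha]
      · rcases hb with hb | hb
        · rw [hb, e.2 hb]
        · rw [ha, hb]
    have h4 := Nat.card_le_card_of_injective _ hinj
    rw [Nat.card_eq_fintype_card (α := Bool), Fintype.card_bool] at h4
    exact h4
  rw [← h1]
  exact Nat.mul_le_mul_right _ h3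

variable {F R S : Type*} [Field F] [Ring R] [Algebra F R] [Finite R] [Group S] [Finite S] {C : Type*} [CommGroup C]
  [Fintype C] [Fintype (C →* Fˣ)]

theorem card_weights_le (h2 : (2 : F) ≠ 0) (σ : R →+ R) (hσ : ∀ (c : F) (r : R), σ (c • r) = c • σ r)
    (I X : Subgroup Rˣ) (π : X →* S) (hF : Frame σ I X π) {D : Subgroup S} {x : S} (hc : Cfg D x)
    (ρ : C →* R) (hC : ∀ c : C, c * c = 1) (hn : (Fintype.card C : F) ≠ 0) (hρσ : ∀ c, σ (ρ c) = ρ c)
    (x₀ : X) (hx : π x₀ = x) (hxC : ∀ c, ρ c * ((x₀ : Rˣ) : R) = ((x₀ : Rˣ) : R) * ρ c) :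
    Nat.card {χ : C →* Fˣ // idem ρ χ ≠ 0} ≤ 7 := by
  classical
  let T : ((C →* Fˣ) → ℤˣ) →* Rˣ := (sg ρ hC hn h2).toHomUnits
  have hT : ∀ ε, ((T ε : Rˣ) : R) = sg ρ hC hn h2 ε := fun ε => rfl
  have hTs : ∀ ε, σ (sg ρ hC hn h2 ε) = sg ρ hC hn h2 ε := by
    intro ε
    rw [sg_apply, map_sum]
    refine Finset.sum_congr rfl fun χ _ => ?_
    rw [hσ]
    congr 1
    unfold idem
    rw [hσ, map_sum]
    congr 1
    refine Finset.sum_congr rfl fun c _ => ?_
    rw [hσ, hρσ]
  have hTsq : ∀ ε, T ε * T ε = 1 := by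
    intro ε
    apply Units.ext
    rw [Units.val_mul, hT, sg_sq, Units.val_one]
  have hTI : T.range ≤ I := by
    rintro _ ⟨ε, rfl⟩
    rw [hF.mem, hT, hTs, sg_sq]
  -- lower bound
  have hlow : 2 ^ Nat.card {χ : C →* Fˣ // idem ρ χ ≠ 0} ≤ Nat.card T.range := by
    let ext : ({χ : C →* Fˣ // idem ρ χ ≠ 0} → ℤˣ) → ((C →* Fˣ) → ℤˣ) := fun ε χ =>
      if h : idem ρ χ ≠ 0 then ε ⟨χ, h⟩ else 1
    have hinj : Function.Injective fun ε => (⟨T (ext ε), ext ε, rfl⟩ : T.range) := by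
      intro ε ε' h
      have h1 : T (ext ε) = T (ext ε') := congrArg Subtype.val h
      have h3 : sg ρ hC hn h2 (ext ε) = sg ρ hC hn h2 (ext ε') := by rw [← hT, ← hT, h1]
      funext χ
      have h4 := sg_inj ρ hC hn h2 h3 χ.1 χ.2
      simp only [ext, dif_pos χ.2] at h4
      exact h4
    have h1 := Nat.card_le_card_of_injective _ hinj
    have h3 : Nat.card ({χ : C →* Fˣ // idem ρ χ ≠ 0} → ℤˣ) = 2 ^ Nat.card {χ : C →* Fˣ // idem ρ χ ≠ 0} := by
      rw [Nat.card_fun, Nat.card_eq_fintype_card (α := ℤˣ)]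
      rfl
    rwa [h3] at h1
  -- the part in `X`
  let E : Subgroup X := T.range.subgroupOf X
  have hE : ∀ e ∈ E, ∃ ε, T ε = ((e : X) : Rˣ) := by
    intro e he
    obtain ⟨ε, hε⟩ := Subgroup.mem_subgroupOf.1 he
    exact ⟨ε, hε⟩
  have hEsq : ∀ e ∈ E, e * e = 1 := by
    intro e he
    obtain ⟨ε, hε⟩ := hE e he
    apply Subtype.ext
    show ((e : X) : Rˣ) * e = 1
    rw [← hε, hTsq]
  have hEx : ∀ e ∈ E, e * x₀ = x₀ * e := by
    intro e he
    obtain ⟨ε, hε⟩ := hE e he
    apply Subtype.ext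
    apply Units.ext
    show ((e : X) : Rˣ).1 * (x₀ : Rˣ).1 = (x₀ : Rˣ).1 * ((e : X) : Rˣ).1
    rw [← hε, hT]
    exact sg_comm ρ hC hn h2 ε hxC
  have hQ := ((D3 hc).1 (E.map π) (by
      rintro ⟨_, e, he, rfl⟩
      refine ⟨1, Subtype.ext ?_⟩
      show (π e) ^ (2 ^ 1) = 1
      rw [pow_one, pow_two, ← map_mul, hEsq e he, map_one]) (by
      rintro _ ⟨e, he, rfl⟩
      rw [← hx, ← map_mul, hEx e he, map_mul])).1
  have hE2 : Nat.card E ≤ 2 * Nat.card (E.map π) := by
    let ν : X →* R := (Units.coeHom R).comp X.subtype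
    refine card_le_two_mul (ν := ν) (fun a b h => Subtype.ext (Units.ext h)) (fun z hz => hF.ker z hz) E
  -- the index
  have hidx : X.relIndex T.range ≤ 4 := by
    refine (Subgroup.relIndex_le_of_le_right hTI ?_).trans hF.idx
    exact Subgroup.index_ne_zero_of_finite
  have hcard := Subgroup.card_mul_index (X.subgroupOf T.range)
  have hcmp : Nat.card (X.subgroupOf T.range) ≤ Nat.card E := by
    refine Nat.card_le_card_of_injective (fun g => (⟨⟨g.1.1, g.2⟩, g.1.2⟩ : E)) ?_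
    intro g g' h
    have h1 : g.1.1 = g'.1.1 := congrArg (fun u : E => ((u : X) : Rˣ)) h
    exact Subtype.ext (Subtype.ext h1)
  have h128 : Nat.card T.range ≤ 32 * 4 := by
    rw [← hcard]
    refine Nat.mul_le_mul (hcmp.trans (hE2.trans ?_)) hidx
    omega
  by_contra hcon
  push Not at hcon
  have h8 : 2 ^ 8 ≤ 2 ^ Nat.card {χ : C →* Fˣ // idem ρ χ ≠ 0} := Nat.pow_le_pow_right (by norm_num) hcon
  have h9 := (h8.trans hlow).trans h128
  norm_num at h9

theorem idem_comm (ρ : C →* R) (χ : C →* Fˣ) {r : R} (hr : ∀ c, ρ c * r = r * ρ c) : idem ρ χ * r = r * idem ρ χ := by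
  unfold idem
  rw [smul_mul_assoc, mul_smul_comm, Finset.sum_mul, Finset.mul_sum]
  congr 1
  refine Finset.sum_congr rfl fun c _ => ?_
  rw [smul_mul_assoc, mul_smul_comm, hr]

/-- a lift of `x` which commutes with the preimage of `D` -/
theorem exists_lift_comm {G S R : Type*} [Group G] [Group S] [Ring R] {ν : G →* R} (hν : Function.Injective ν)
    {π : G →* S} (hker : ∀ z : G, π z = 1 → ν z = 1 ∨ ν z = -1) (hs : Function.Surjective π) {x : S}
    (hx : Odd (orderOf x)) : ∃ x₀ : G, π x₀ = x ∧ ∀ d : G, π d * x = x * π d → d * x₀ = x₀ * d := by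
  obtain ⟨x₁, rfl⟩ := hs x
  obtain ⟨k, hk⟩ := hx
  refine ⟨(x₁ * x₁) ^ (k + 1), ?_, ?_⟩
  · rw [← pow_two, ← pow_mul, map_pow]
    have e : 2 * (k + 1) = orderOf (π x₁) + 1 := by omega
    rw [e, pow_succ, pow_orderOf_eq_one, one_mul]
  · intro d hd
    have hz : π (x₁ * d * x₁⁻¹ * d⁻¹) = 1 := by
      rw [map_mul, map_mul, map_mul, map_inv, map_inv, ← hd]
      group
    have hzc := ker_comm hν hker hz
    have hz2 := ker_sq hν hker hz
    set z := x₁ * d * x₁⁻¹ * d⁻¹ with hzdef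
    have h1 : x₁ * d = z * (d * x₁) := by
      rw [hzdef]
      group
    have h2 : (x₁ * x₁) * d = d * (x₁ * x₁) := by
      calc (x₁ * x₁) * d = x₁ * (x₁ * d) := mul_assoc _ _ _
        _ = x₁ * (z * (d * x₁)) := by rw [h1]
        _ = (x₁ * z) * (d * x₁) := (mul_assoc _ _ _).symm
        _ = (z * x₁) * (d * x₁) := by rw [hzc x₁]
        _ = z * (x₁ * d) * x₁ := by simp only [mul_assoc]
        _ = z * (z * (d * x₁)) * x₁ := by rw [h1]
        _ = (z * z) * (d * (x₁ * x₁)) := by simp only [mul_assoc]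
        _ = d * (x₁ * x₁) := by rw [hz2, one_mul]
    have h3 : Commute d (x₁ * x₁) := h2.symm
    exact (h3.pow_right (k + 1)).eq

end number

section final

open Cfsg.Agent.H352.KS

theorem pc : PC := by
  intro F R S _ _ _ _ _ h2 σ hσ I X π hF D x y₀ hc hy hy5 hab
  classical
  have hfS : Finite S := Finite.of_surjective π hF.surj
  let ν : X →* R := (Units.coeHom R).comp X.subtype
  have hν : Function.Injective ν := fun a b h => Subtype.ext (Units.ext h)
  have hνv : ∀ a : X, ν a = ((a : Rˣ) : R) := fun a => rfl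
  have hker : ∀ z : X, π z = 1 → ν z = 1 ∨ ν z = -1 := fun z hz => hF.ker z hz
  have hnt : Nontrivial R := by
    by_contra h
    rw [not_nontrivial_iff_subsingleton] at h
    have h1 : Subsingleton X := hν.subsingleton
    have h3 : Subsingleton S := hF.surj.subsingleton
    have h4 := hc.e16.card
    rw [Nat.card_of_subsingleton (1 : D)] at h4
    omega
  have hfF : Finite F := Finite.of_injective (algebraMap F R) (algebraMap F R).injective
  obtain ⟨D₀, hmap, hinj, hsq, hnorm, hcomm⟩ := exists_compl hν hker hc.e16 hy hab hF.surj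
  let _ : CommGroup D₀ := { (inferInstance : Group D₀) with mul_comm := fun a b => Subtype.ext (hcomm a a.2 b b.2) }
  have hfD : Fintype D₀ := Fintype.ofFinite _
  have hfX : Fintype (D₀ →* Fˣ) := Fintype.ofFinite _
  have hD₀D : ∀ d ∈ D₀, π d ∈ D := fun d hd => by rw [← hmap]; exact ⟨d, hd, rfl⟩
  let ρ : D₀ →* R := ν.comp D₀.subtype
  have hρv : ∀ c : D₀, ρ c = ν c := fun c => rfl
  have hρi : Function.Injective ρ := fun a b h => Subtype.ext (hν h)
  have hC : ∀ c : D₀, c * c = 1 := fun c => Subtype.ext (hsq c c.2)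
  have heq : ∀ a ∈ D₀, ∀ b ∈ D₀, π a = π b → a = b := by
    intro a ha b hb h
    have h1 : a * b⁻¹ = 1 := by
      refine hinj _ (D₀.mul_mem ha (D₀.inv_mem hb)) ?_
      rw [map_mul, map_inv, h, mul_inv_cancel]
    exact mul_inv_eq_one.1 h1
  have h16 : Nat.card D₀ = 16 := by
    rw [← hc.e16.card]
    refine Nat.card_congr (Equiv.ofBijective (fun d : D₀ => (⟨π d, hD₀D d d.2⟩ : D)) ⟨?_, ?_⟩)
    · intro a b h
      exact Subtype.ext (heq a a.2 b b.2 (congrArg Subtype.val h))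
    · rintro ⟨d, hd⟩
      rw [← hmap] at hd
      obtain ⟨a, ha, rfl⟩ := hd
      exact ⟨⟨a, ha⟩, rfl⟩
  have hn : (Fintype.card D₀ : F) ≠ 0 := by
    rw [← Nat.card_eq_fintype_card, h16]
    have e : ((16 : ℕ) : F) = (2 : F) ^ 4 := by norm_num
    rw [e]
    exact pow_ne_zero _ h2
  -- the action
  have hnorm' : ∀ d : X, y₀⁻¹ * d * y₀ ∈ D₀ ↔ d ∈ D₀ := by
    intro d
    rw [← hnorm (y₀⁻¹ * d * y₀)]
    have e : y₀ * (y₀⁻¹ * d * y₀) * y₀⁻¹ = d := by group
    rw [e]
  let θ : MulAut D₀ :=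
    { toFun := fun d => ⟨y₀⁻¹ * d * y₀, (hnorm' d).2 d.2⟩
      invFun := fun d => ⟨y₀ * d * y₀⁻¹, (hnorm d).2 d.2⟩
      left_inv := fun d => Subtype.ext (by show y₀ * (y₀⁻¹ * d * y₀) * y₀⁻¹ = d; group)
      right_inv := fun d => Subtype.ext (by show y₀⁻¹ * (y₀ * d * y₀⁻¹) * y₀ = d; group)
      map_mul' := fun d e => Subtype.ext (by
        show y₀⁻¹ * (d * e) * y₀ = (y₀⁻¹ * d * y₀) * (y₀⁻¹ * e * y₀); group) }
  have hθ : ∀ d : D₀, ((θ d : D₀) : X) = y₀⁻¹ * d * y₀ := fun d => rfl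
  have hθk : ∀ (k : ℕ) (d : D₀), (((θ ^ k) d : D₀) : X) = (y₀ ^ k)⁻¹ * d * y₀ ^ k := by
    intro k
    induction k with
    | zero => intro d; simp
    | succ k ih =>
      intro d
      rw [pow_succ' θ, MulAut.mul_apply, hθ, ih, pow_succ]
      group
  have h5 : ∀ c : D₀, (θ ^ 5) c = c := by
    intro c
    apply Subtype.ext
    apply heq _ ((θ ^ 5) c).2 _ c.2
    rw [hθk, map_mul, map_mul, map_inv, map_pow, mul_assoc]
    have h3 := (D4 hc.e16 hy).1 _ (hD₀D c c.2)
    rw [← h3, inv_mul_cancel_left]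
  have h1 : ∀ c : D₀, θ c = c → c = 1 := by
    intro c h
    have h3 : y₀⁻¹ * (c : X) * y₀ = c := congrArg Subtype.val h
    apply Subtype.ext
    apply hinj _ c.2
    refine ne_comm hc.e16 hy (hD₀D c c.2) ?_
    rw [← map_mul, ← map_mul]
    congr 1
    calc y₀ * (c : X) = y₀ * (y₀⁻¹ * (c : X) * y₀) := by rw [h3]
      _ = c * y₀ := by group
  have hY : ∀ c, ((y₀ : Rˣ) : R) * ρ (θ c) = ρ c * ((y₀ : Rˣ) : R) := by
    intro c
    have e : y₀ * ((θ c : D₀) : X) = c * y₀ := by rw [hθ]; group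
    have e1 := congrArg ν e
    rw [map_mul, map_mul] at e1
    exact e1
  -- the lift of `x`
  obtain ⟨x₀, hx₀, hx₀c⟩ := exists_lift_comm hν hker hF.surj hc.odd
  have hσρ : ∀ c, σ (ρ c) = ρ c := by
    intro c
    have e1 : σ (ρ c) * ρ c = 1 := (hF.mem ((c : X) : Rˣ)).1 (hF.le (c : X).2)
    have e2 : ρ c * ρ c = 1 := by rw [← map_mul, hC, map_one]
    calc σ (ρ c) = σ (ρ c) * (ρ c * ρ c) := by rw [e2, mul_one]
      _ = (σ (ρ c) * ρ c) * ρ c := (mul_assoc _ _ _).symm
      _ = ρ c := by rw [e1, one_mul]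
  have h7 : Nat.card {χ : D₀ →* Fˣ // idem ρ χ ≠ 0} ≤ 7 := by
    refine card_weights_le h2 σ hσ I X π hF hc ρ hC hn hσρ x₀ hx₀ ?_
    intro c
    have e := hx₀c (c : X) (hc.comm _ (hD₀D c c.2))
    have e1 := congrArg ν e
    rw [map_mul, map_mul] at e1
    exact e1
  obtain ⟨χ, hχ1, hχ⟩ := exists_weight hC h2 ρ hn hρi h16
  obtain ⟨t, ht⟩ := exists_t hC θ h5 h1 h2 ρ hn _ hY h7 hρi h16 hχ hχ1
  have hconj : ∀ i : ℕ, (((y₀ ^ i : X) : Rˣ) : R) * idem ρ χ * ((((y₀ ^ i : X)⁻¹ : X) : Rˣ) : R) =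
      idem ρ ((tw θ)^[i] χ) := by
    intro i
    have e := idem_iter ρ θ _ hY χ i
    have e1 : (((y₀ ^ i : X) : Rˣ) : R) = (((y₀ : Rˣ) ^ i : Rˣ) : R) := by rw [Subgroup.coe_pow]
    have e2 : (((y₀ ^ i : X) : Rˣ) : R) * ((((y₀ ^ i : X)⁻¹ : X) : Rˣ) : R) = 1 := by
      rw [← hνv, ← hνv, ← map_mul, mul_inv_cancel, map_one]
    rw [← e1] at e
    rw [e, mul_assoc, e2, mul_one]
  refine ⟨D₀, idem ρ χ, t, ?_⟩
  refine
    { map := hmap
      inj := hinj
      sq := hsq
      norm := hnorm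
      ne := hχ
      star := ?_
      idem := ?_
      orth := ?_
      five := ?_
      cent := ?_
      sgn := ?_
      mem := t.2
      val := ?_
      surj := ?_ }
  · unfold idem
    rw [hσ, map_sum]
    congr 1
    refine Finset.sum_congr rfl fun c _ => ?_
    rw [hσ, hσρ]
  · rw [idem_mul ρ hC hn, if_pos rfl]
  · intro i hi1 hi4
    rw [hconj, idem_mul ρ hC hn, if_neg]
    intro h
    have h3 := tw_inj hC θ h5 h1 hχ1 (i := 0) (j := i) (by omega) (by omega) h
    omega
  · have e := idem_iter ρ θ _ hY χ 5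
    rw [tw_five θ h5] at e
    have e1 : (((y₀ ^ 5 : X) : Rˣ) : R) = (((y₀ : Rˣ) ^ 5 : Rˣ) : R) := by rw [Subgroup.coe_pow]
    rw [e1]
    exact e
  · intro r hr
    exact idem_comm ρ χ fun c => hr c c.2
  · intro d hd
    have e := rho_idem ρ hC χ (⟨d, hd⟩ : D₀)
    rcases chi_pm hC χ ⟨d, hd⟩ with h | h
    · left
      rw [h, Units.val_one, one_smul] at e
      exact e
    · right
      rw [h, Units.val_neg, Units.val_one, neg_one_smul] at e
      exact e
  · have e := hconj 1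
    rw [pow_one] at e
    rw [e]
    exact ht
  · intro g hg d hd
    have e := comm_of_pm hC θ h5 h1 h2 ρ hn _ hY h7 hρi h16 (g : Rˣ) (by
      intro c
      have hz : π (g * c * g⁻¹ * (c : X)⁻¹) = 1 := by
        rw [map_mul, map_mul, map_mul, map_inv, map_inv, hg _ (hD₀D c c.2)]
        group
      have e1 : g * (c : X) = (g * c * g⁻¹ * (c : X)⁻¹) * (c * g) := by group
      have e2 : ν (g * (c : X)) = ν (g * c * g⁻¹ * (c : X)⁻¹) * ν (c * g) := by
        rw [← map_mul, ← e1]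
      rw [map_mul, map_mul ν (c : X) g] at e2
      rcases hker _ hz with h | h
      · left
        rw [h, one_mul] at e2
        exact e2
      · right
        rw [h, neg_one_mul] at e2
        exact e2) ⟨d, hd⟩
    apply hν
    rw [map_mul, map_mul]
    exact e

end final

end Cfsg.Agent.H989.KS
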